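import Groth.Agent.Fixpt.H136.Good
import Groth.Agent.Fixpt.H926.Comp
import Groth.Agent.CurvesA.CurveDeg
import Groth.Agent.Sga4B.RelCurveFibre

/-!
# The divisor of fixed points of an endomorphism with transversal fixed points

`k` algebraically closed, `f : X ⟶ Spec k` integral, proper and smooth of relative dimension 1,
`F ≫ f = f`, all fixed `k`-points transversal.
* `ne_id`: `F ≠ 𝟙 X`;
* `span_eq`: the ideal generated by the `F^* a - a` at a fixed point is the maximal ideal;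
* `deg_eq_card`: a divisor with multiplicity one at the fixed points and zero elsewhere has degree the
  number of fixed `k`-points;
* `deg_eq_card_left`, `deg_eq_card_right`: the same with the hypotheses in the form of the conclusion of
  `Sga5.H849.Diag.HC_diagCls_lift` for `(F, 𝟙)` and `(𝟙, F)`.
-/

set_option autoImplicit false
universe u

open CategoryTheory CategoryTheory.Limits AlgebraicGeometry Opposite IsLocalRing

namespace Groth.Agent.Fixpt.H926.FixDeg

open Groth.Agent.Fixpt.H926.Comp FixPt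
open Groth.Agent.CurvesA.CurveDeg (deg deg_single deg_apply)
open Groth.Agent.Fixpt.H136.Good (pt isClosed_pt)

variable {k : Type u} [Field k] [IsAlgClosed k] {X : Scheme.{u}} [IsIntegral X]
  (f : X ⟶ Spec (CommRingCat.of k)) [IsProper f] [SmoothOfRelativeDimension 1 f]
  (F : X ⟶ X)

omit [IsAlgClosed k] [IsProper f] in
include f in
theorem dim_eq : topologicalKrullDim X = 1 := by
  simpa using Groth.Agent.Sga4B.RelCurveFibre.topologicalKrullDim_eq f 1

omit [IsAlgClosed k] [IsProper f] in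
include f in
/-- Non generic points are closed. -/
theorem isClosed_of_ne (z : X) (hz : z ≠ genericPoint X) : IsClosed ({z} : Set X) :=
  (CurvesA.CurveDvr.isClosed_singleton_iff (dim_eq f) z).2 hz

omit [IsAlgClosed k] in
theorem pt_ne_genericPoint (ξ : Spec (CommRingCat.of k) ⟶ X) (hξ : ξ ≫ f = 𝟙 _) :
    ξ (closedPoint k) ≠ genericPoint X :=
  (CurvesA.CurveDvr.isClosed_singleton_iff (dim_eq f) _).1 (isClosed_pt f ξ hξ)

/-- The closed fixed points are the fixed `k`-points. -/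
theorem exists_fixPt (hF : F ≫ f = f) (z : X) (hz : z ≠ genericPoint X) (h : F z = z) :
    ∃ ξ : FixPts f F, ξ.1 (closedPoint k) = z := by
  have hcl := isClosed_of_ne f z hz
  have h1 := pointOfClosedPoint_comp f z hcl
  have h2 : ∀ a, pointOfClosedPoint f z hcl a = z := pointOfClosedPoint_apply f z hcl
  refine ⟨⟨pointOfClosedPoint f z hcl, h1, ?_⟩, h2 _⟩
  refine ext_of_apply_closedPoint_eq f ?_ h1 ?_
  · rw [Category.assoc, hF, h1]
  · rw [Scheme.Hom.comp_apply, h2, h]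

/-- Fixed `k`-points and closed fixed points. -/
noncomputable def fixEquiv (hF : F ≫ f = f) :
    FixPts f F ≃ {z : {z : X // z ≠ genericPoint X} // F z.1 = z.1} :=
  Equiv.ofBijective (fun ξ => ⟨⟨ξ.1 (closedPoint k), pt_ne_genericPoint f ξ.1 ξ.2.1⟩,
    base_apply_eq_of_comp_eq ξ.2.2 _⟩) ⟨fun ξ η h => by
      apply Subtype.ext
      exact ext_of_apply_closedPoint_eq f ξ.2.1 η.2.1
        (congrArg (fun t : {z : {z : X // z ≠ genericPoint X} // F z.1 = z.1} => t.1.1) h), fun z => by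
      obtain ⟨ξ, hξ⟩ := exists_fixPt f F hF z.1.1 z.1.2 z.2
      exact ⟨ξ, Subtype.ext (Subtype.ext hξ)⟩⟩

/-- At a transversal fixed point the ideal of the fixed points is the maximal ideal. -/
theorem span_eq (hF : F ≫ f = f) (ξ : FixPts f F) (ht : IsTransversalAt F (ξ.1 (closedPoint k)))
    (h₁ : F (pt ξ.1) = pt ξ.1) (h₂ : (𝟙 X : X ⟶ X) (pt ξ.1) = pt ξ.1) :
    Ideal.span (Set.range fun a => stalkMapAt F (pt ξ.1) (pt ξ.1) h₁ a -
      stalkMapAt (𝟙 X) (pt ξ.1) (pt ξ.1) h₂ a) = maximalIdeal (X.presheaf.stalk (pt ξ.1)) := by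
  have hgood := H136.Good.GoodAt.of_transversal f F hF ξ.1 ξ.2.1 ξ.2.2 h₁ h₂ ht
  have hc := H136.Good.congr_of_point F (𝟙 X) ξ.1 (by rw [ξ.2.2, Category.comp_id]) (pt ξ.1) h₁ h₂
  rw [H136.Good.GoodAt.span_eq f f hF (Category.id_comp f) (pt ξ.1) (pt ξ.1)
    (isClosed_pt f ξ.1 ξ.2.1) h₁ h₂ hc hgood]
  have hid : stalkMapAt (𝟙 X) (pt ξ.1) (pt ξ.1) h₂ = RingHom.id _ :=
    H136.Good.stalkMapAt_id (pt ξ.1)
  rw [hid, Ideal.map_id]

/-- An endomorphism with transversal fixed points is not the identity. -/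
theorem ne_id (ht : ∀ ξ : FixPts f F, IsTransversalAt F (ξ.1 (closedPoint k))) : F ≠ 𝟙 X := by
  rintro rfl
  obtain ⟨z, hz⟩ := CurvesA.CurveDvr.exists_ne_genericPoint (X := X) (dim_eq f)
  obtain ⟨ξ, -⟩ := exists_fixPt f (𝟙 X) (Category.id_comp f) z hz rfl
  have h := span_eq f (𝟙 X) (Category.id_comp f) ξ (ht ξ) rfl rfl
  have hcl := isClosed_pt f ξ.1 ξ.2.1
  have hdom := H136.Good.isDomain_stalk f hcl
  have hdvr := H136.Good.isDVR_stalk f hcl
  refine IsDiscreteValuationRing.not_a_field (X.presheaf.stalk (pt ξ.1)) ?_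
  rw [← h, Ideal.span_eq_bot]
  rintro _ ⟨a, rfl⟩
  exact sub_self _

/-- The degree of the divisor of fixed points. -/
theorem deg_eq_card (hF : F ≫ f = f) (E : {z : X // z ≠ genericPoint X} →₀ ℤ)
    (h0 : ∀ z : {z : X // z ≠ genericPoint X}, F z.1 ≠ z.1 → E z = 0)
    (h1 : ∀ z : {z : X // z ≠ genericPoint X}, F z.1 = z.1 → E z = 1) :
    deg X E = (Nat.card (FixPts f F) : ℤ) := by
  have hs : ∀ z : {z : X // z ≠ genericPoint X}, z ∈ E.support ↔ F z.1 = z.1 := by
    intro z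
    rw [Finsupp.mem_support_iff]
    constructor
    · intro h
      by_contra h2
      exact h (h0 z h2)
    · intro h
      rw [h1 z h]
      exact one_ne_zero
  rw [Nat.card_congr (fixEquiv f F hF), Nat.subtype_card E.support hs, deg_apply, Finsupp.sum,
    Finset.sum_congr rfl fun z hz => h1 z ((hs z).1 hz), Finset.sum_const, nsmul_eq_mul, mul_one]

/-- The degree of the divisor of coincidences of `F` and `𝟙`. -/
theorem deg_eq_card_left (hF : F ≫ f = f)
    (ht : ∀ ξ : FixPts f F, IsTransversalAt F (ξ.1 (closedPoint k)))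
    (E : {z : X // z ≠ genericPoint X} →₀ ℤ)
    (h0 : ∀ z : {z : X // z ≠ genericPoint X}, F z.1 ≠ (𝟙 X : X ⟶ X) z.1 → E z = 0)
    (h1 : ∀ (z : {z : X // z ≠ genericPoint X}) (x : X) (hx₁ : F z.1 = x)
      (hx₂ : (𝟙 X : X ⟶ X) z.1 = x) (m : ℕ),
      Ideal.span (Set.range fun r : X.presheaf.stalk x =>
        stalkMapAt F z.1 x hx₁ r - stalkMapAt (𝟙 X) z.1 x hx₂ r) =
          maximalIdeal (X.presheaf.stalk z.1) ^ m → E z = m) :
    deg X E = (Nat.card (FixPts f F) : ℤ) := by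
  refine deg_eq_card f F hF E h0 fun z hz => ?_
  obtain ⟨ξ, hξ⟩ := exists_fixPt f F hF z.1 z.2 hz
  obtain ⟨z, hz'⟩ := z
  dsimp only at hξ hz
  subst hξ
  have h2 := span_eq f F hF ξ (ht ξ) hz rfl
  have h3 := h1 ⟨ξ.1 (closedPoint k), hz'⟩ _ hz rfl 1 (by rw [pow_one]; exact h2)
  rw [h3, Nat.cast_one]

/-- The degree of the divisor of coincidences of `𝟙` and `F`. -/
theorem deg_eq_card_right (hF : F ≫ f = f)
    (ht : ∀ ξ : FixPts f F, IsTransversalAt F (ξ.1 (closedPoint k)))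
    (E : {z : X // z ≠ genericPoint X} →₀ ℤ)
    (h0 : ∀ z : {z : X // z ≠ genericPoint X}, (𝟙 X : X ⟶ X) z.1 ≠ F z.1 → E z = 0)
    (h1 : ∀ (z : {z : X // z ≠ genericPoint X}) (x : X) (hx₁ : (𝟙 X : X ⟶ X) z.1 = x)
      (hx₂ : F z.1 = x) (m : ℕ),
      Ideal.span (Set.range fun r : X.presheaf.stalk x =>
        stalkMapAt (𝟙 X) z.1 x hx₁ r - stalkMapAt F z.1 x hx₂ r) =
          maximalIdeal (X.presheaf.stalk z.1) ^ m → E z = m) :
    deg X E = (Nat.card (FixPts f F) : ℤ) := by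
  refine deg_eq_card_left f F hF ht E (fun z hz => h0 z (Ne.symm hz)) fun z x hx₁ hx₂ m hm => ?_
  refine h1 z x hx₂ hx₁ m ?_
  rw [← hm]
  apply le_antisymm
  · rw [Ideal.span_le]
    rintro _ ⟨a, rfl⟩
    have h2 : stalkMapAt F z.1 x hx₁ a - stalkMapAt (𝟙 X) z.1 x hx₂ a ∈ Ideal.span (Set.range
      fun r : X.presheaf.stalk x => stalkMapAt F z.1 x hx₁ r - stalkMapAt (𝟙 X) z.1 x hx₂ r) :=
      Ideal.subset_span ⟨a, rfl⟩
    have h3 := neg_mem h2
    rw [neg_sub] at h3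
    exact h3
  · rw [Ideal.span_le]
    rintro _ ⟨a, rfl⟩
    have h2 : stalkMapAt (𝟙 X) z.1 x hx₂ a - stalkMapAt F z.1 x hx₁ a ∈ Ideal.span (Set.range
      fun r : X.presheaf.stalk x => stalkMapAt (𝟙 X) z.1 x hx₂ r - stalkMapAt F z.1 x hx₁ r) :=
      Ideal.subset_span ⟨a, rfl⟩
    have h3 := neg_mem h2
    rw [neg_sub] at h3
    exact h3

end Groth.Agent.Fixpt.H926.FixDeg
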