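import Groth.Agent.Sga4h.H915.TraceConv
import Mathlib.RingTheory.Finiteness.Basic
import Mathlib.LinearAlgebra.FreeModule.Basic
import Mathlib.Data.ZMod.Basic
import Mathlib.Algebra.Module.ZMod

/-!
# Semilinear transport of finite free modules, traces in rank one
-/

set_option autoImplicit false

namespace Groth.Agent.Fixpt.H926.SemiLin

section

variable {R R' : Type*} [CommRing R] [CommRing R'] (σ : R ≃+* R')
variable {V : Type*} [AddCommGroup V] [Module R' V] {W : Type*} [AddCommGroup W] [Module R W]
  (e : V ≃+ W) (he : ∀ (r : R) (x : V), e (σ r • x) = r • e x)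

include he in
/-- Transport of finite free modules. -/
theorem finite_free_semi (h : Module.Finite R W ∧ Module.Free R W) :
    Module.Finite R' V ∧ Module.Free R' V := by
  obtain ⟨h1, h2⟩ := h
  let : Module R V := Module.compHom V (σ : R →+* R')
  have hs : ∀ (c : R) (x : V), σ c • x = c • x := fun _ _ => rfl
  let e' : V ≃ₗ[R] W := { e with map_smul' := fun r x => he r x }
  rcases subsingleton_or_nontrivial R with hR | hR
  · have hR' : Subsingleton R' := σ.symm.injective.subsingleton
    have hV : Subsingleton V := Module.subsingleton R' V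
    exact ⟨inferInstance, inferInstance⟩
  · let b := (Module.Free.chooseBasis R W).map e'.symm
    let b' := b.mapCoeffs σ hs
    exact ⟨Module.Finite.of_basis b', Module.Free.of_basis b'⟩

include he in
/-- Transport of rank one. -/
theorem bijective_semi (w : W) (h : Function.Bijective (fun c : R => c • w)) :
    Function.Bijective (fun c : R' => c • e.symm w) := by
  have h1 : ∀ c : R', e (c • e.symm w) = σ.symm c • w := by
    intro c
    have h2 := he (σ.symm c) (e.symm w)
    rwa [RingEquiv.apply_symm_apply, AddEquiv.apply_symm_apply] at h2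
  constructor
  · intro c c' hc
    dsimp only at hc
    apply σ.symm.injective
    apply h.1
    dsimp only
    rw [← h1, ← h1, hc]
  · intro x
    obtain ⟨d, hd⟩ := h.2 (e x)
    refine ⟨σ d, e.injective ?_⟩
    dsimp only at hd ⊢
    rw [h1, RingEquiv.symm_apply_apply, hd]

end

/-- Additive equivalences are semilinear along an isomorphism with `ℤ/n`. -/
theorem semi_of_zmod {n : ℕ} {R' : Type*} [CommRing R'] (σ : ZMod n ≃+* R')
    {V : Type*} [AddCommGroup V] [Module R' V] {W : Type*} [AddCommGroup W] [Module (ZMod n) W]
    (e : V ≃+ W) (r : ZMod n) (x : V) : e (σ r • x) = r • e x := by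
  obtain ⟨m, rfl⟩ := ZMod.intCast_surjective r
  rw [map_intCast, Int.cast_smul_eq_zsmul, Int.cast_smul_eq_zsmul, map_zsmul]

end Groth.Agent.Fixpt.H926.SemiLin
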