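import Groth.Agent.Fixpt.H926.Comp
import Groth.Agent.Fixpt.H926.FixDeg
import Groth.Agent.Fixpt.H926.HZero
import Groth.Agent.Fixpt.H926.SemiLin
import Groth.Agent.Fixpt.H902.MXBridge
import Groth.Agent.Sga5.H861.T1

/-!
# The alternating sum of traces for a connected scheme of cohomological dimension two, coefficients `ℤ/n`

`L` is a ring with `σ : ℤ/n ≃+* L` (it will be `ULift (ZMod n)`; it is kept variable for reasons of speed).
`lef_eq`: if `X` is connected, `R²(X) = ℤ/n γ` with trace `T`, and `R^i(X) = 0` for `i > 2`, then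
`Σ (-1)^i Tr(F^* | H^i(X, L)) = σ (1 - Tr(F^* | R¹(X)) + T (F^* γ))`.
-/

set_option autoImplicit false
universe u

open CategoryTheory CategoryTheory.Limits AlgebraicGeometry Opposite CategoryTheory.Abelian

namespace Groth.Agent.Fixpt.H926.ConnZ

open Groth.Agent.Fixpt.H902 Groth.Agent.Fixpt.H902.MX Groth.Agent.Fixpt.H926.Comp
open Groth.Agent.Sga5.H861.Res Groth.Agent.Sga5.H861.T1
open scoped Groth.Agent.Etcore.EtInst Groth.Agent.Sga4B.ModEtInst

variable {n : ℕ} {L : Type (u + 1)} [CommRing L] [IsZ n L] (σ : ZMod n ≃+* L) {X : Scheme.{u}}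

/-- `HH` and `R` are the same groups. -/
noncomputable def eR (L : Type (u + 1)) [CommRing L] (X : Scheme.{u}) (i : ℕ) : HH L X L i ≃+ R L X i :=
  (MXBridge.toHM L X L i).toAddEquiv

theorem eR_res (F : X ⟶ X) (i : ℕ) (x : HH L X L i) :
    eR L X i (MX.res F L i x) = Groth.Agent.Sga5.H861.Res.res F i (eR L X i x) :=
  (MXBridge.endo_toHM F i x).symm

theorem eR_smul (i : ℕ) (c : ZMod n) (x : HH L X L i) : eR L X i (σ c • x) = c • eR L X i x :=
  SemiLin.semi_of_zmod σ (eR L X i) c x

theorem bijective_γ {γ : R L X 2} {T : R L X 2 →+ ZMod n} (hT : ∀ x, x = T x • γ) (hγ : T γ = 1) :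
    Function.Bijective (fun c : ZMod n => c • γ) := by
  constructor
  · intro c c' h
    have h1 := congrArg T h
    dsimp only at h1
    rwa [ZMod.map_smul, ZMod.map_smul, hγ, smul_eq_mul, smul_eq_mul, mul_one, mul_one] at h1
  · intro x
    exact ⟨T x, (hT x).symm⟩

/-- The trace in degree two. -/
theorem trace_two {γ : R L X 2} {T : R L X 2 →+ ZMod n} (hT : ∀ x, x = T x • γ) (hγ : T γ = 1)
    (F : X ⟶ X) :
    LinearMap.trace L (HH L X L 2) (MX.res F L 2) =
      σ (T (Groth.Agent.Sga5.H861.Res.res F 2 γ)) := by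
  refine HZero.trace_of_bij ((eR L X 2).symm γ)
    (SemiLin.bijective_semi σ (eR L X 2) (eR_smul σ 2) γ (bijective_γ hT hγ)) _ _ ?_
  apply (eR L X 2).injective
  rw [eR_res, eR_smul, AddEquiv.apply_symm_apply]
  exact hT _

/-- The trace in degree `i` over `ℤ/n` and over `L`. -/
theorem trace_i (F : X ⟶ X) (i : ℕ) :
    LinearMap.trace L (HH L X L i) (MX.res F L i) = σ (LinearMap.trace (ZMod n) _ (resL L n F i)) :=
  Groth.Agent.Sga4h.H915.TraceConv.trace_semi σ (eR L X i) (eR_smul σ i) _ _ (eR_res F i)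

theorem subsingleton_of (i : ℕ) (h : ∀ x : R L X i, x = 0) : Subsingleton (HH L X L i) := by
  have h1 : Subsingleton (R L X i) := ⟨fun x y => (h x).trans (h y).symm⟩
  exact (eR L X i).injective.subsingleton

/-- **The alternating sum of the traces.** -/
theorem lef_eq [ConnectedSpace X] {γ : R L X 2} {T : R L X 2 →+ ZMod n} (hT : ∀ x, x = T x • γ)
    (hγ : T γ = 1) (hvan : ∀ i, 2 < i → ∀ x : R L X i, x = 0) (F : X ⟶ X) :
    lef L F = σ (T (Groth.Agent.Sga5.H861.Res.res F 2 γ) + 1 -
      LinearMap.trace (ZMod n) _ (resL L n F 1)) := by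
  rw [lef_eq_range L F fun i hi => subsingleton_of i (hvan i hi), Finset.sum_range_succ,
    Finset.sum_range_succ, Finset.sum_range_one, HZero.trace_res, trace_i σ F 1, trace_two σ hT hγ,
    map_sub, map_add, map_one]
  ring

include σ in
/-- The cohomology is finite free. -/
theorem finite_free [ConnectedSpace X] {γ : R L X 2} {T : R L X 2 →+ ZMod n}
    (hT : ∀ x, x = T x • γ) (hγ : T γ = 1) (hvan : ∀ i, 2 < i → ∀ x : R L X i, x = 0)
    (h1 : Module.Finite (ZMod n) (R L X 1) ∧ Module.Free (ZMod n) (R L X 1)) (i : ℕ) :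
    Module.Finite L (HH L X L i) ∧ Module.Free L (HH L X L i) := by
  rcases Nat.lt_or_ge 2 i with hi | hi
  · have := subsingleton_of i (hvan i hi)
    exact ⟨inferInstance, inferInstance⟩
  · interval_cases i
    · exact HZero.finite_free
    · exact SemiLin.finite_free_semi σ (eR L X 1) (eR_smul σ 1) h1
    · exact HZero.finite_free_of_bij ((eR L X 2).symm γ)
        (SemiLin.bijective_semi σ (eR L X 2) (eR_smul σ 2) γ (bijective_γ hT hγ))

end Groth.Agent.Fixpt.H926.ConnZ
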