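import Groth.Agent.Fixpt.H926.LefCore
import Groth.Agent.Sga5.H861.Duality
import Groth.Agent.Sga5.H844.ProdCount

/-!
# The Lefschetz formula for smooth proper curves, coefficients `ℤ/n`, `n` invertible

`lefFor`: `k` algebraically closed, `n` invertible in `k`: `CurveCase.LefFor k (ZMod n)` (smooth proper curves,
connected or not; endomorphisms with finitely many fixed points, all transversal).
-/

set_option autoImplicit false
universe u

open CategoryTheory CategoryTheory.Limits AlgebraicGeometry Opposite CategoryTheory.Abelian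

namespace Groth.Agent.Fixpt.H926.LefAll

variable {k : Type u} [Field k] [IsAlgClosed k]

theorem core (n : ℕ) (hn : (n : k) ≠ 0) : LefZ.Core k n (ULift.{u + 1} (ZMod n)) := by
  refine LefCore.core n hn (fun {X} a _ _ _ => ⟨Groth.Agent.Sga5.H861.Duality.hasDual a 1 n hn, ?_⟩)
    (fun {X} a _ _ _ m h => Groth.Agent.Sga5.H844.ProdCount.card_H2_prod_le k a n hn m h)
  have := smoothOfRelativeDimension_isStableUnderBaseChange.{u} 1
  have i1 : SmoothOfRelativeDimension 1 (pullback.fst a a) :=
    MorphismProperty.pullback_fst (P := @SmoothOfRelativeDimension 1) a a inferInstance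
  have i2 : SmoothOfRelativeDimension 2 (pullback.fst a a ≫ a) :=
    inferInstanceAs (SmoothOfRelativeDimension (1 + 1) (pullback.fst a a ≫ a))
  exact Groth.Agent.Sga5.H861.Duality.hasDual (pullback.fst a a ≫ a) 2 n hn

/-- **The Lefschetz formula for smooth proper curves, coefficients `ℤ/n`.** -/
theorem lefFor (n : ℕ) (hn : (n : k) ≠ 0) :
    Groth.Agent.Sga4h.H915.CurveCase.LefFor k (ZMod n) :=
  LefZ.lefFor n (core n hn)

end Groth.Agent.Fixpt.H926.LefAll
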