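import Groth.Agent.Fixpt.H926.LefZ
import Groth.Agent.Sga5.H844.FixOf
import Groth.Agent.Sga4B.RelCurveFibre
import Groth.Agent.Sga5.HcConst
import Groth.Agent.S0224
import Groth.Agent.S0203

/-!
# The inputs of the Lefschetz formula on integral curves, from duality

`core`: `LefZ.Core k n (ULift (ZMod n))` for every `n` invertible in `k`, from `HasDual` for the curve and
its square and the bound for `|H²(X × X, ℤ/n)|`.
-/

set_option autoImplicit false
universe u

open CategoryTheory CategoryTheory.Limits AlgebraicGeometry Opposite CategoryTheory.Abelian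

namespace Groth.Agent.Fixpt.H926.LefCore

open Groth.Agent.Etcore Groth.Agent.Etcore.EtInst
open Groth.Agent.Sga5.H861.Res Groth.Agent.Sga5.H861.T1
open Groth.Agent.Sga5.H844 Groth.Agent.Sga5.H844.TrTrans
open Groth.Agent.Sga5.H849.InR
open scoped Groth.Agent.Etcore.EtInst Groth.Agent.Sga4B.ModEtInst

variable {k : Type u} [Field k] [IsAlgClosed k] {X : Scheme.{u}} (a : X ⟶ Spec (CommRingCat.of k))
  [IsProper a] [SmoothOfRelativeDimension 1 a] (n : ℕ) (hn : (n : k) ≠ 0)

include a hn in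
theorem exists_h1 [ConnectedSpace X] :
    ∃ m : ℕ, Nonempty (EtCoh.H X (EtCoh.const X (ZMod n)) 1 ≃+ (Fin m → ZMod n)) := by
  have hn0 : n ≠ 0 := by rintro rfl; exact hn (by simp)
  have hX := Groth.Agent.Sga4B.RelCurveFibre.isSmoothProperCurve a
  let _ : X.Over (Spec (CommRingCat.of k)) := ⟨a⟩
  exact ⟨_, Groth.Agent.S0224.result k X hX _ rfl n (Nat.one_le_iff_ne_zero.2 hn0) hn⟩

include a in
theorem subsingleton_H [IsIntegral X] (hn0 : n ≠ 0) (i : ℕ) (hi : 2 < i) :
    Subsingleton (EtCoh.H X (EtCoh.const X (ZMod n)) i) := by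
  refine Groth.Agent.S0203.result k X a ?_ _ ?_ i hi
  · exact (Groth.Agent.Sga4B.RelCurveFibre.topologicalKrullDim_eq a 1).le.trans (by simp)
  · exact Groth.Agent.Sga5.HcConst.isTorsion_of_killedBy n hn0 _
      (Groth.Agent.Sga5.HcConst.killedBy_const X n (ZMod n) (Groth.Agent.Sga5.HcConst.zmod_nsmul n))

/-- **The inputs of the Lefschetz formula on integral curves**, from duality. -/
theorem core (n : ℕ) (hn : (n : k) ≠ 0)
    (hd : ∀ {X : Scheme.{u}} (a : X ⟶ Spec (CommRingCat.of k)) [IsIntegral X] [IsProper a]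
      [SmoothOfRelativeDimension 1 a], HasDual (ULift.{u + 1} (ZMod n)) n X 2 ∧
        HasDual (ULift.{u + 1} (ZMod n)) n (pullback a a) 4)
    (hc : ∀ {X : Scheme.{u}} (a : X ⟶ Spec (CommRingCat.of k)) [IsIntegral X] [IsProper a]
      [SmoothOfRelativeDimension 1 a] (m : ℕ),
      Nonempty (EtCoh.H X (EtCoh.const X (ZMod n)) 1 ≃+ (Fin m → ZMod n)) →
      Finite (EtCoh.H (pullback a a) (EtCoh.const (pullback a a) (ZMod n)) 2) ∧
        Nat.card (EtCoh.H (pullback a a) (EtCoh.const (pullback a a) (ZMod n)) 2) ≤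
          n ^ (2 + m ^ 2)) :
    LefZ.Core k n (ULift.{u + 1} (ZMod n)) := by
  have hn0 : n ≠ 0 := by rintro rfl; exact hn (by simp)
  have : NeZero n := ⟨hn0⟩
  obtain ⟨ζ, hζ⟩ := FixOf.exists_primitiveRoot (k := k) hn
  intro X a _ _ _
  obtain ⟨m, ⟨e1⟩⟩ := exists_h1 a n hn
  obtain ⟨hX, hS⟩ := hd a
  obtain ⟨hf, hc⟩ := hc a m ⟨e1⟩
  let ε : ULift.{u + 1} (ZMod n) ≃+ ULift.{u + 1} (ZMod n) := AddEquiv.refl _
  refine ⟨?_, fun i hi x => ?_, gam hζ hn ε a, T hζ hn ε a, eq_T_smul hζ hn ε a, T_gam hζ hn ε a,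
    fun F hF hne => FixOf.exists_trace a hn ε hζ hX hS e1 (subsingleton_H a n hn0 3 (by omega))
      hf hc F hF hne⟩
  · let b := Module.Basis.ofEquivFun (toLin (n := n) ((tr ε X 1).symm.trans e1))
    exact ⟨Module.Finite.of_basis b, Module.Free.of_basis b⟩
  · obtain ⟨y, rfl⟩ := (tr ε X i).surjective x
    have := subsingleton_H a n hn0 i hi
    rw [Subsingleton.elim y 0, map_zero]

end Groth.Agent.Fixpt.H926.LefCore
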