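import Groth.Agent.Fixpt.H926.ConnZ
import Groth.Agent.Sga4h.H915.CurveCase

/-!
# The Lefschetz formula for smooth proper curves, coefficients `ℤ/n`, from its inputs on integral curves

`Core k n L`: for integral curves, `R¹` is finite free, `R^i = 0` for `i > 2`, `R² = ℤ/n γ` and
`Tr(F^* | R¹) = 1 + T (F^* γ) - deg E`.  `lefFor`: `Core k n (ULift (ZMod n))` implies
`CurveCase.LefFor k (ZMod n)` (all smooth proper curves, `n` arbitrary).
-/

set_option autoImplicit false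
universe u

open CategoryTheory CategoryTheory.Limits AlgebraicGeometry Opposite CategoryTheory.Abelian

namespace Groth.Agent.Fixpt.H926.LefZ

open Groth.Agent.Fixpt.H902 Groth.Agent.Fixpt.H902.MX Groth.Agent.Fixpt.H926.Comp
open Groth.Agent.Sga5.H861.Res Groth.Agent.Sga5.H861.T1
open FixPt (stalkMapAt)
open scoped Groth.Agent.Etcore.EtInst Groth.Agent.Sga4B.ModEtInst

/-- The inputs of the Lefschetz formula on integral curves. -/
def Core (k : Type u) [Field k] (n : ℕ) (L : Type (u + 1)) [CommRing L] [IsZ n L] : Prop :=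
  ∀ {X : Scheme.{u}} (a : X ⟶ Spec (CommRingCat.of k)) [IsIntegral X] [IsProper a]
    [SmoothOfRelativeDimension 1 a],
    (Module.Finite (ZMod n) (R L X 1) ∧ Module.Free (ZMod n) (R L X 1)) ∧
    (∀ i, 2 < i → ∀ x : R L X i, x = 0) ∧
    ∃ (γ : R L X 2) (T : R L X 2 →+ ZMod n), (∀ x, x = T x • γ) ∧ T γ = 1 ∧
      ∀ (F : X ⟶ X), F ≫ a = a → F ≠ 𝟙 X → ∃ E : {z : X // z ≠ genericPoint X} →₀ ℤ,
        (∀ z : {z : X // z ≠ genericPoint X}, F z.1 ≠ z.1 → E z = 0) ∧
        (∀ (z : {z : X // z ≠ genericPoint X}) (hx : (𝟙 X : X ⟶ X) z.1 = z.1) (hz : F z.1 = z.1)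
          (m : ℕ), Ideal.span (Set.range fun r : X.presheaf.stalk z.1 =>
            stalkMapAt (𝟙 X) z.1 z.1 hx r - stalkMapAt F z.1 z.1 hz r) =
              IsLocalRing.maximalIdeal (X.presheaf.stalk z.1) ^ m → E z = m) ∧
        LinearMap.trace (ZMod n) (R L X 1) (resL L n F 1) =
          1 + T (Groth.Agent.Sga5.H861.Res.res F 2 γ) - ((E.sum fun _ m => m : ℤ) : ZMod n)

variable {k : Type u} [Field k] [IsAlgClosed k] {n : ℕ} {L : Type (u + 1)} [CommRing L] [IsZ n L]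
  (σ : ZMod n ≃+* L)

include σ in
/-- **The Lefschetz formula.** -/
theorem lef_eq_card (H : Core k n L) {X : Scheme.{u}} (f : X ⟶ Spec (CommRingCat.of k)) [IsProper f]
    [SmoothOfRelativeDimension 1 f] (F : X ⟶ X) (hF : F ≫ f = f) (hfin : Finite (FixPts f F))
    (ht : ∀ ξ : FixPts f F, FixPt.IsTransversalAt F (ξ.1 (IsLocalRing.closedPoint k))) :
    lef L F = (Nat.card (FixPts f F) : L) := by
  refine of_connected L (fun {X} f _ _ _ i => ?_) (fun {X} f _ _ _ i hi => ?_)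
    (fun {X} f _ _ _ F hF hfin ht => ?_) f F hF hfin ht
  · obtain ⟨h1, h2, γ, T, hT, hγ, -⟩ := H f
    exact ConnZ.finite_free σ hT hγ h2 h1 i
  · exact ConnZ.subsingleton_of i ((H f).2.1 i hi)
  · obtain ⟨h1, h2, γ, T, hT, hγ, h3⟩ := H f
    obtain ⟨E, hE0, hE1, hE⟩ := h3 F hF (FixDeg.ne_id f F ht)
    have hdeg : (E.sum fun _ m => m : ℤ) = (Nat.card (FixPts f F) : ℤ) := by
      refine FixDeg.deg_eq_card_right f F hF ht E (fun z hz => hE0 z (Ne.symm hz)) ?_
      intro z x hx₁ hx₂ m hm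
      have hzx : z.1 = x := hx₁
      subst hzx
      exact hE1 z hx₁ hx₂ m hm
    rw [ConnZ.lef_eq σ hT hγ h2 F, hE, hdeg, Int.cast_natCast,
      show T (Groth.Agent.Sga5.H861.Res.res F 2 γ) + 1 - (1 + T (Groth.Agent.Sga5.H861.Res.res F 2 γ) -
        (Nat.card (FixPts f F) : ZMod n)) = (Nat.card (FixPts f F) : ZMod n) by ring, map_natCast]

/-- **The Lefschetz formula, coefficients `ℤ/n`**, in the form `CurveCase.LefFor`. -/
theorem lefFor (n : ℕ) (H : Core k n (ULift.{u + 1} (ZMod n))) :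
    Groth.Agent.Sga4h.H915.CurveCase.LefFor k (ZMod n) := by
  intro X f _ _ F hF hfin ht _
  rw [MXBridge.lefNum_endo]
  exact lef_eq_card (ULift.ringEquiv (R := ZMod n)).symm H f F hF hfin ht

end Groth.Agent.Fixpt.H926.LefZ
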